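import Cfsg.Agent.Lib.FusionTransfer.ControlTransfer
import Cfsg.Agent.Lib.KInf.WeakClosurePow
import Cfsg.Agent.Lib.KInf.Section
import Cfsg.Agent.Lib.LocalP2.FusionCenterApp
import Cfsg.Agent.Lib.LocalChar.Core

/-!
A functor controlling the `p`-th powers of the centre in finite groups does so in saturated fusion systems.
-/

set_option autoImplicit false

namespace Cfsg.Agent.Lib.FusionTransfer

open Cfsg Cfsg.FusionSystem Cfsg.Agent.Lib.Fusion Cfsg.Agent.Lib.LocalChar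
open scoped commutatorElement Pointwise
open Cfsg.Agent.Lib.LocalP2 (Fixed)

universe u

variable {p : ℕ} {W : ∀ (Q : Type u) [Group Q], Subgroup Q}

/-- The subgroup of `p`-th powers of the centre. -/
def zPow {Ω : Type*} [Group Ω] (p : ℕ) (S : Subgroup Ω) : Subgroup Ω :=
  Subgroup.closure ((fun z => z ^ p) '' ((S ⊓ Subgroup.centralizer (S : Set Ω) : Subgroup Ω) : Set Ω))

/-- The quadratic hypothesis on all finite groups. -/
def QuadCond (p : ℕ) (W : ∀ (Q : Type u) [Group Q], Subgroup Q) : Prop :=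
  ∀ (G : Type u) [Group G] [Finite G] (P : Sylow p G), ¬ (wsub W (P : Subgroup G)).Normal →
    ∃ g : G, g ∈ (P : Subgroup G) ∧ g ∉ Cfsg.pCore p G ∧
      ⁅⁅Subgroup.center ↥(Cfsg.pCore p G) |>.map (Cfsg.pCore p G).subtype, Subgroup.zpowers g⁆,
        Subgroup.zpowers g⁆ = ⊥

/-- The functor contains the centre. -/
def CenterLE (p : ℕ) (W : ∀ (Q : Type u) [Group Q], Subgroup Q) : Prop :=
  ∀ (Q : Type u) [Group Q] [Finite Q], IsPGroup p Q → Subgroup.center Q ≤ W Q

/-- Maps of the normalizer of `wsub W S` fix `x`. -/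
def FixN {Ω : Type u} [Group Ω] {S : Subgroup Ω} (F : FusionSystem S)
    (W : ∀ (Q : Type u) [Group Q], Subgroup Q) (x : Ω) : Prop :=
  ∀ (P : Subgroup Ω) (φ : P →* Ω), φ ∈ F.normalizerHom (wsub W S) P → ∀ hx : x ∈ P, φ ⟨x, hx⟩ = x

section ZPow

variable {Ω : Type*} [Group Ω] {S : Subgroup Ω}

theorem zPow_le : zPow p S ≤ S ⊓ Subgroup.centralizer (S : Set Ω) := by
  refine (Subgroup.closure_le _).2 ?_
  rintro _ ⟨z, hz, rfl⟩
  exact pow_mem hz p

theorem zPow_root {x : Ω} (hx : x ∈ zPow p S) :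
    ∃ z, z ∈ S ∧ z ∈ Subgroup.centralizer (S : Set Ω) ∧ z ^ p = x := by
  refine Subgroup.closure_induction (fun y hy => ?_) ⟨1, one_mem _, one_mem _, one_pow p⟩
    (fun y z _ _ hy hz => ?_) (fun y _ hy => ?_) hx
  · obtain ⟨z, hz, rfl⟩ := hy
    exact ⟨z, hz.1, hz.2, rfl⟩
  · obtain ⟨a, ha, ha', rfl⟩ := hy
    obtain ⟨b, hb, hb', rfl⟩ := hz
    exact ⟨a * b, mul_mem ha hb, mul_mem ha' hb', (show Commute a b from hb' a ha).mul_pow p⟩
  · obtain ⟨a, ha, ha', rfl⟩ := hy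
    exact ⟨a⁻¹, inv_mem ha, inv_mem ha', inv_pow a p⟩

theorem zPow_of_root {z : Ω} (h1 : z ∈ S) (h2 : z ∈ Subgroup.centralizer (S : Set Ω)) : z ^ p ∈ zPow p S :=
  Subgroup.subset_closure ⟨z, ⟨h1, h2⟩, rfl⟩

theorem zPow_mono {T : Subgroup Ω} (hTS : T ≤ S) (h : S ⊓ Subgroup.centralizer (S : Set Ω) ≤ T) :
    zPow p S ≤ zPow p T := fun x hx => by
  obtain ⟨z, h1, h2, rfl⟩ := zPow_root hx
  exact zPow_of_root (h ⟨h1, h2⟩) fun t ht => h2 t (hTS ht)

theorem center_le_normalizerIn {Q : Subgroup Ω} (hQ : Q ≤ S) :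
    S ⊓ Subgroup.centralizer (S : Set Ω) ≤ normalizerIn S Q := fun z hz =>
  ⟨hz.1, centralizer_le_normalizer' Q fun q hq => hz.2 q (hQ hq)⟩

theorem zPow_le_normalizerIn {Q : Subgroup Ω} (hQ : Q ≤ S) {x : Ω} (hx : x ∈ zPow p S) :
    x ∈ zPow p (normalizerIn S Q) :=
  zPow_mono (normalizerIn_le S Q) (center_le_normalizerIn hQ) hx

end ZPow

theorem mem_wsub_of_center (hWZ : CenterLE.{u} p W) {Ω : Type u} [Group Ω] {T : Subgroup Ω} [Finite T]
    (hT : IsPGroup p T) {x : Ω} (h1 : x ∈ T) (h2 : x ∈ Subgroup.centralizer (T : Set Ω)) : x ∈ wsub W T :=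
  ⟨⟨x, h1⟩, hWZ ↥T hT (Subgroup.mem_center_iff.2 fun t => Subtype.ext (h2 t t.2)), rfl⟩

theorem quadCond_local [Fact p.Prime] (hW : IsCharPFunctor.{u} p W) (hq : QuadCond.{u} p W)
    (G : Type u) [Group G] [Finite G] (H T : Subgroup G) (hTH : T ≤ H) (hTp : IsPGroup p ↥T)
    (hTi : ¬ p ∣ T.relIndex H)
    (hn : ¬ H ≤ Subgroup.normalizer ((Cfsg.inducedFunctor W T : Subgroup G) : Set G)) :
    ∃ g : G, g ∈ T ∧ g ∉ Cfsg.pCoreOf p H ∧
      ⁅⁅Cfsg.pCoreOf p H ⊓ Subgroup.centralizer ((Cfsg.pCoreOf p H : Subgroup G) : Set G),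
        Subgroup.zpowers g⁆, Subgroup.zpowers g⁆ = ⊥ := by
  have hTS : Cfsg.Agent.Lib.LocalChar.IsSylowIn p T H := ⟨hTH, hTp, hTi⟩
  have hmap : (hTS.sylow : Subgroup H).map H.subtype = T := by
    rw [hTS.sylow_coe, Subgroup.subgroupOf_map_subtype, inf_eq_left.2 hTH]
  have hWm : (wsub W (hTS.sylow : Subgroup H)).map H.subtype = Cfsg.inducedFunctor W T := by
    have h := Cfsg.Agent.Lib.KInf.induced_map hW H.subtype hTS.sylow.2 H.subtype_injective.injOn
    rw [hmap] at h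
    exact h.symm
  obtain ⟨g, hgP, hgc, hquad⟩ := hq H hTS.sylow fun hnorm => hn fun a ha => by
    refine mem_normalizer_of_conj_mem fun y hy => ?_
    rw [← hWm] at hy ⊢
    obtain ⟨b, hb, rfl⟩ := hy
    exact ⟨⟨a, ha⟩ * b * ⟨a, ha⟩⁻¹, hnorm.conj_mem b hb _, rfl⟩
  refine ⟨(g : G), hgP, fun h => ?_, ?_⟩
  · obtain ⟨b, hb, hbe⟩ := h
    exact hgc (Subtype.ext hbe ▸ hb)
  · refine le_bot_iff.1 ?_
    have h := congrArg (Subgroup.map H.subtype) hquad
    rw [Subgroup.map_commutator, Subgroup.map_commutator, MonoidHom.map_zpowers, Subgroup.map_bot] at h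
    refine (Subgroup.commutator_mono (Subgroup.commutator_mono ?_ le_rfl) le_rfl).trans h.le
    rintro v ⟨⟨b, hb, rfl⟩, hvc⟩
    refine ⟨b, ⟨⟨b, hb⟩, Subgroup.mem_center_iff.2 fun c => ?_, rfl⟩, rfl⟩
    exact Subtype.ext (Subtype.ext (hvc _ ⟨(c : H), c.2, rfl⟩))

section Constrained

variable {Ω : Type u} [Group Ω] {S : Subgroup Ω} {F : FusionSystem S}

theorem constrained_fix [Finite S] [Fact p.Prime] (hW : IsCharPFunctor.{u} p W) (hWZ : CenterLE.{u} p W)
    (hq : QuadCond.{u} p W) (hS : IsPGroup p S) (hC : F.IsConstrained p) {x : Ω} (hx : x ∈ zPow p S)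
    (hX : FixN F W x) : Fixed F x := by
  intro P φ hφ hxP
  obtain ⟨G, _, ι, hfin, ⟨hι, hr⟩, ⟨T, hT⟩, -⟩ := exists_model hS hC
  have hPS := src_le hφ
  obtain ⟨g, hg⟩ := (hr P hPS φ (val_mem hφ)).1 hφ
  obtain ⟨hxS, hxC⟩ := zPow_le hx
  let xS : S := ⟨x, hxS⟩
  let yS : S := ⟨φ ⟨x, hxP⟩, val_mem hφ _⟩
  have hgx : ι yS = g * ι xS * g⁻¹ := hg ⟨x, hxP⟩
  have hmem : ∀ s : S, ι s ∈ (T : Subgroup G) := fun s => hT.ge ⟨s, rfl⟩
  have hWS : ((W ↥S).map ι) = wsub W (T : Subgroup G) := by rw [wsub_map hW hS hι, hT]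
  have hW' : ∀ s : S, (s : Ω) ∈ wsub W S ↔ ι s ∈ wsub W (T : Subgroup G) := by
    intro s
    rw [← hWS]
    constructor
    · rintro ⟨w, hw, hws⟩
      obtain rfl : w = s := Subtype.ext hws
      exact ⟨w, hw, rfl⟩
    · rintro ⟨w, hw, hws⟩
      obtain rfl : w = s := hι hws
      exact ⟨w, hw, rfl⟩
  have hxZ : ι xS ∈ zPow p (T : Subgroup G) := by
    obtain ⟨z, h1, h2, hz⟩ := zPow_root hx
    have e : xS = (⟨z, h1⟩ : S) ^ p := Subtype.ext hz.symm
    rw [e, map_pow]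
    refine zPow_of_root (hmem _) fun t ht => ?_
    obtain ⟨s, rfl⟩ := hT.le ht
    rw [← map_mul, ← map_mul]
    exact congrArg ι (Subtype.ext (h2 s s.2))
  have hxV : x ∈ wsub W S := mem_wsub_of_center hWZ hS hxS hxC
  have hSN : S ≤ Subgroup.normalizer (wsub W S : Set Ω) :=
    Subgroup.le_normalizer.trans (wsub_normalizer hW hS)
  have hxN : ι xS ∈ Subgroup.centralizer
      ((Subgroup.normalizer ((Cfsg.inducedFunctor W (T : Subgroup G) : Subgroup G) : Set G) : Subgroup G) : Set G) := by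
    intro n hn
    -- the map induced on `wsub W S`
    set V := wsub W S with hV
    have hVS : V ≤ S := wsub_le S
    have hmapT : ∀ d : V, n * ι ⟨(d : Ω), hVS d.2⟩ * n⁻¹ ∈ ι.range := by
      intro d
      rw [← hT]
      exact wsub_le _ (conj_mem_of_mem_normalizer hn ((hW' _).1 d.2))
    let χ : V →* Ω := S.subtype.comp ((MonoidHom.ofInjective hι).symm.toMonoidHom.comp
      ((((MulAut.conj n).toMonoidHom.comp ι).comp (Subgroup.inclusion hVS)).codRestrict ι.range hmapT))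
    have hχι : ∀ d : V, ι ⟨χ d, SetLike.coe_mem _⟩ = n * ι ⟨(d : Ω), hVS d.2⟩ * n⁻¹ := fun d =>
      MonoidHom.apply_ofInjective_symm hι ⟨_, hmapT d⟩
    have hχ : χ ∈ F.Hom V := (hr V hVS χ fun d => SetLike.coe_mem _).2 ⟨n, hχι⟩
    have hχV : (V.subgroupOf V).map χ = V := by
      have := finite_of_le hVS
      refine eq_of_le_of_natCard_le ?_ ?_
      · rintro _ ⟨d, -, rfl⟩
        refine (hW' ⟨χ d, SetLike.coe_mem _⟩).2 ?_
        rw [hχι]
        exact conj_mem_of_mem_normalizer hn ((hW' _).1 d.2)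
      · rw [Subgroup.card_map_of_injective (F.injective_of_mem hχ),
          Nat.card_congr (Subgroup.subgroupOfEquivOfLe le_rfl).toEquiv]
    have hfix := hX V χ (mem_normalizerHom le_rfl (le_normalizerIn hVS) hχ
      (fun d => ⟨SetLike.coe_mem _, hSN (SetLike.coe_mem _)⟩) hχV) hxV
    have h := hχι ⟨x, hxV⟩
    rw [show (⟨χ ⟨x, hxV⟩, SetLike.coe_mem _⟩ : S) = xS from Subtype.ext hfix] at h
    have h' : ι xS = n * ι xS * n⁻¹ := h
    calc n * ι xS = n * ι xS * n⁻¹ * n := by group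
      _ = ι xS * n := by rw [← h']
  have hgc := (Cfsg.Agent.Lib.KInf.weakClosure_powers T (Cfsg.Agent.Lib.KInf.isConjugacyFunctor_induced hW)
    (fun P hP z hz => mem_wsub_of_center hWZ hP hz.1 hz.2) (fun H T' => quadCond_local hW hq G H T')
    (zPow p (T : Subgroup G)) rfl).1 (ι xS) ⟨hxZ, hxN⟩ g (hgx ▸ hmem yS)
  rw [← hgx] at hgc
  exact congrArg Subtype.val (hι hgc)

end Constrained

section Steps

variable {Ω : Type u} [Group Ω] {S : Subgroup Ω} [Finite S] {F : FusionSystem S}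

theorem conj_fix {x g : Ω} (hx : x ∈ Subgroup.centralizer (S : Set Ω)) (hg : g ∈ S) : g * x * g⁻¹ = x := by
  rw [hx g hg, mul_inv_cancel_right]

/-- Maps with large domains fix `x` when automorphisms of fully normalized subgroups do. -/
theorem fix_maps [Fact p.Prime] (hS : IsPGroup p S) (hF : F.IsSaturated p) {x : Ω}
    (hxS : x ∈ S) (hxC : x ∈ Subgroup.centralizer (S : Set Ω))
    (htop : ∀ φ ∈ F.Hom S, φ ⟨x, hxS⟩ = x) (j : ℕ)
    (hstep : ∀ R : Subgroup Ω, F.IsFullyNormalized R → R ≠ S → j ≤ Nat.card R →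
      (∀ P : Subgroup Ω, Nat.card R < Nat.card P → ∀ φ ∈ F.Hom P, ∀ hx : x ∈ P, φ ⟨x, hx⟩ = x) →
      ∀ α : MulAut R, IsIso F α → ∀ hx : x ∈ R, (α ⟨x, hx⟩ : Ω) = x) :
    ∀ P : Subgroup Ω, j ≤ Nat.card P → ∀ φ ∈ F.Hom P, ∀ hx : x ∈ P, φ ⟨x, hx⟩ = x := by
  suffices h : ∀ d, ∀ P : Subgroup Ω, P ≤ S → Nat.card S - Nat.card P = d → j ≤ Nat.card P →
      ∀ φ ∈ F.Hom P, ∀ hx : x ∈ P, φ ⟨x, hx⟩ = x from fun P hjP φ hφ => h _ P (src_le hφ) rfl hjP φ hφ
  intro d
  induction d using Nat.strong_induction_on with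
  | _ d ih =>
  intro P hP hd hjP φ hφ hxP
  by_cases hPS : P = S
  · subst hPS
    exact htop φ hφ
  have := finite_of_le hP
  obtain ⟨R, hPR, hR⟩ := exists_fullyNormalized (F := F) hP
  set P₂ := φ.range with hP₂
  let f₀ := toIso φ hφ (rfl : φ.range = φ.range)
  have hf₀ : IsIso F f₀ := isIso_toIso φ hφ rfl
  have hPP₂ : F.IsConj P P₂ := ⟨φ, hφ, rfl⟩
  have hext : ∀ Y : Subgroup Ω, F.IsConj P Y → ∃ f : Y ≃* R, IsIso F f ∧
      (∀ y : Y, (f y : Ω) = x ↔ (y : Ω) = x) := by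
    intro Y hY
    have hRY : F.IsConj R Y := isConj_trans (isConj_symm hPR) hY
    obtain ⟨f, hf, ψ, hψ, hψN, hψe⟩ := exists_extTo hS hF hR hRY
    have hYS := isConj_right_le hY
    have hlt : Y < normalizerIn S Y := by
      have hne : Y < S := lt_of_le_of_ne hYS fun h => hPS (eq_of_le_of_natCard_le hP
        (by rw [isConj_card hY, h]))
      obtain ⟨g, hg, hgY⟩ := exists_normalizerIn_not_mem hS hne
      exact lt_of_le_not_ge (le_normalizerIn hYS) fun h => hgY (h hg)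
    have hfin := finite_of_le (normalizerIn_le S Y)
    have hc : Nat.card Y < Nat.card (normalizerIn S Y) := lt_of_le_of_ne (Subgroup.card_le_of_le hlt.le)
      fun h => hlt.ne (eq_of_le_of_natCard_le hlt.le h.ge)
    have hc' : Nat.card (normalizerIn S Y) ≤ Nat.card S := Subgroup.card_le_of_le (normalizerIn_le S Y)
    have hcard := isConj_card hY
    have hxN : x ∈ normalizerIn S Y := center_le_normalizerIn hYS ⟨hxS, hxC⟩
    have hd' := ih _ (by omega) _ (normalizerIn_le S Y) rfl (by omega) ψ hψ hxN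
    refine ⟨f, hf, fun y => ?_⟩
    rw [← hψe y (le_normalizerIn hYS y.2)]
    constructor
    · intro h
      exact congrArg Subtype.val (F.injective_of_mem hψ (h.trans hd'.symm))
    · intro h
      rw [show (⟨(y : Ω), le_normalizerIn hYS y.2⟩ : normalizerIn S Y) = ⟨x, hxN⟩ from Subtype.ext h]
      exact hd'
  obtain ⟨f₁, hf₁, hd₁⟩ := hext P (isConj_refl hP)
  obtain ⟨f₂, hf₂, hd₂⟩ := hext P₂ hPP₂
  let α : MulAut R := (f₁.symm.trans f₀).trans f₂
  have hαI : IsIso F α := (hf₁.symm.trans hf₀).trans hf₂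
  have hRne : R ≠ S := fun h => hPS (eq_of_le_of_natCard_le hP (by rw [isConj_card hPR, h]))
  have h1 : (f₁ ⟨x, hxP⟩ : Ω) = x := (hd₁ _).2 rfl
  have hxR : x ∈ R := h1 ▸ (f₁ ⟨x, hxP⟩).2
  have hα := hstep R hR hRne (isConj_card hPR ▸ hjP) (fun P' hP' φ' hφ' hx' => by
    have hcard := isConj_card hPR
    have hle : Nat.card P' ≤ Nat.card S := Subgroup.card_le_of_le (src_le hφ')
    exact ih _ (by omega) P' (src_le hφ') rfl (by omega) φ' hφ' hx') α hαI hxR
  have e : (⟨x, hxR⟩ : R) = f₁ ⟨x, hxP⟩ := Subtype.ext h1.symm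
  have h2 : (f₂ (f₀ ⟨x, hxP⟩) : Ω) = x := by
    have e2 : α ⟨x, hxR⟩ = f₂ (f₀ ⟨x, hxP⟩) := by rw [e]; simp [α]
    exact (congrArg Subtype.val e2).symm.trans hα
  exact (hd₂ _).1 h2

/-- The step in the presence of a normal subgroup `Q`. -/
theorem fix_step [Fact p.Prime] (hS : IsPGroup p S) (hF : F.IsSaturated p) {x : Ω}
    (hxS : x ∈ S) (hxC : x ∈ Subgroup.centralizer (S : Set Ω)) {Q : Subgroup Ω} (hQn : F.IsNormal Q)
    (hfac : ∀ P : Subgroup Ω, ∀ φ ∈ F.Hom P, ∀ hx : x ∈ P, x⁻¹ * φ ⟨x, hx⟩ ∈ Q)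
    (hR0 : ∀ φ ∈ F.Hom (Q ⊔ centralizerIn S Q), ∀ hx : x ∈ Q ⊔ centralizerIn S Q, φ ⟨x, hx⟩ = x)
    {R : Subgroup Ω} (hR : F.IsFullyNormalized R)
    (hbig : ∀ P : Subgroup Ω, Nat.card R < Nat.card P → ∀ φ ∈ F.Hom P, ∀ hx : x ∈ P, φ ⟨x, hx⟩ = x)
    (α₀ : MulAut R) (hα₀ : IsIso F α₀) (hxR : x ∈ R) : (α₀ ⟨x, hxR⟩ : Ω) = x := by
  have := finite_of_le hR.1
  have hQS := hQn.1
  by_cases hQR : Q ≤ R
  swap
  · obtain ⟨ψ, hψ, hψP, -⟩ := hQn.2 R _ hα₀
    have hlt : R < R ⊔ Q := lt_of_le_of_ne le_sup_left fun h => hQR (sup_eq_left.1 h.symm)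
    have := finite_of_le (sup_le hR.1 hQS)
    have hc : Nat.card R < Nat.card ↥(R ⊔ Q) := lt_of_le_of_ne (Subgroup.card_le_of_le hlt.le)
      fun h => hlt.ne (eq_of_le_of_natCard_le hlt.le h.ge)
    have h := hψP ⟨x, hxR⟩
    rw [show Subgroup.inclusion le_sup_left (⟨x, hxR⟩ : R) = ⟨x, le_sup_left (b := Q) hxR⟩ from rfl,
      hbig _ hc ψ hψ _] at h
    exact h.symm
  set C := centralizerIn S Q with hC
  have hxC' : x ∈ C := ⟨hxS, fun q hq => hxC q (hQS hq)⟩
  by_cases hCR : C ≤ R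
  · exact hR0 _ (restrict_mem (sup_le hQR hCR) hα₀) (Subgroup.mem_sup_right hxC')
  have hsc := stronglyClosed_of_isNormal hQn
  have hSQ := le_normalizer_of_stronglyClosed hsc
  -- automorphisms fixing `Q`
  set A := F.autGroup R with hA
  have hQmap : ∀ β ∈ A, ∀ y : R, (y : Ω) ∈ Q → (β y : Ω) ∈ Q := fun β hβ y hy =>
    map_mem_of_normal hQn ((mem_autGroup hR.1).1 hβ) y hy
  let K : Subgroup A :=
    { carrier := {β | ∀ y : R, (y : Ω) ∈ Q → (β : MulAut R) y = y}
      mul_mem' := fun {a b} ha hb y hy => by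
        show (a : MulAut R) ((b : MulAut R) y) = y
        rw [hb y hy, ha y hy]
      one_mem' := fun y _ => rfl
      inv_mem' := fun {a} ha y hy => by
        show (a : MulAut R).symm y = y
        rw [MulEquiv.symm_apply_eq, ha y hy] }
  have hK : K.Normal := ⟨fun k hk β y hy => by
    show (β : MulAut R) ((k : MulAut R) ((β : MulAut R)⁻¹ y)) = y
    rw [hk _ (hQmap _ (inv_mem β.2) y hy)]
    exact (β : MulAut R).apply_symm_apply y⟩
  have : Finite A := inferInstance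
  let Fix : Subgroup A :=
    { carrier := {β | (β : MulAut R) ⟨x, hxR⟩ = ⟨x, hxR⟩}
      mul_mem' := fun {a b} (ha : _ = _) (hb : _ = _) => by
        show (a : MulAut R) ((b : MulAut R) ⟨x, hxR⟩) = _
        rw [hb, ha]
      one_mem' := rfl
      inv_mem' := fun {a} (ha : _ = _) => by
        show (a : MulAut R).symm ⟨x, hxR⟩ = _
        rw [MulEquiv.symm_apply_eq, ha] }
  suffices hall : ∀ β : A, β ∈ Fix from
    congrArg Subtype.val (hall ⟨α₀, (mem_autGroup hR.1).2 hα₀⟩ : α₀ ⟨x, hxR⟩ = ⟨x, hxR⟩)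
  obtain ⟨Sy, hSy⟩ := (fullyNormalized_props hS hF hR).1.2
  have hSyFix : (Sy : Subgroup A) ≤ Fix := by
    intro β hβ
    rw [hSy] at hβ
    obtain ⟨g, hg, he⟩ := mem_autInducedBy.1 hβ
    exact Subtype.ext ((he ⟨x, hxR⟩).trans (conj_fix hxC hg))
  -- the difference is a homomorphism on `K`
  have hd : ∀ β : A, x⁻¹ * ((β : MulAut R) ⟨x, hxR⟩ : Ω) ∈ Q := fun β =>
    hfac R _ ((mem_autGroup hR.1).1 β.2) hxR
  let c : K →* S := MonoidHom.mk' (fun k => ⟨x⁻¹ * (((k : A) : MulAut R) ⟨x, hxR⟩ : Ω), hQS (hd k)⟩)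
    fun a b => by
      apply Subtype.ext
      show x⁻¹ * (((a : A) : MulAut R) (((b : A) : MulAut R) ⟨x, hxR⟩) : Ω) = _
      have e : ((b : A) : MulAut R) ⟨x, hxR⟩ =
          ⟨x, hxR⟩ * ⟨x⁻¹ * (((b : A) : MulAut R) ⟨x, hxR⟩ : Ω), hQR (hd b)⟩ :=
        Subtype.ext (mul_inv_cancel_left _ _).symm
      conv_lhs => rw [e, map_mul, a.2 ⟨x⁻¹ * (((b : A) : MulAut R) ⟨x, hxR⟩ : Ω), hQR (hd b)⟩ (hd b)]
      show x⁻¹ * ((((a : A) : MulAut R) ⟨x, hxR⟩ : Ω) * (x⁻¹ * _)) = _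
      simp [mul_assoc]
  have hTK := IsSylowIn.inf_subnormal Sy hK.isSubnormal
  set TK : Sylow p K := hTK.sylow with hTKdef
  have hKc : ∀ k : K, c k = 1 := by
    have hker : (TK : Subgroup K) ≤ c.ker := fun k hk => by
      have h : ((k : A) : MulAut R) ⟨x, hxR⟩ = ⟨x, hxR⟩ := hSyFix (show (k : A) ∈ _ from hk.1)
      refine Subtype.ext ?_
      show x⁻¹ * (((k : A) : MulAut R) ⟨x, hxR⟩ : Ω) = 1
      rw [h]; exact inv_mul_cancel x
    intro k
    have hi : c.ker.index ∣ (TK : Subgroup K).index := Subgroup.index_dvd_of_le hker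
    rw [Subgroup.index_ker] at hi
    obtain ⟨n, hn⟩ := IsPGroup.iff_card.1 (hS.to_subgroup c.range)
    rw [hn] at hi
    have hn0 : n = 0 := by
      by_contra h
      exact TK.not_dvd_index ((dvd_pow_self p h).trans hi)
    rw [hn0, pow_zero] at hn
    exact Subgroup.mem_bot.1 ((Subgroup.card_eq_one.1 hn) ▸ ⟨k, rfl⟩)
  have hKFix : K ≤ Fix := fun k hk => by
    have h : x⁻¹ * ((k : MulAut R) ⟨x, hxR⟩ : Ω) = 1 := congrArg Subtype.val (hKc ⟨k, hk⟩)
    exact Subtype.ext (inv_mul_eq_one.1 h).symm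
  have hNFix : Subgroup.normalizer (((TK : Subgroup K).map K.subtype : Subgroup A) : Set A) ≤ Fix := by
    intro β hβ
    have hTKm : (TK : Subgroup K).map K.subtype = (Sy : Subgroup A) ⊓ K := by
      rw [hTKdef, hTK.sylow_coe, Subgroup.subgroupOf_map_subtype, inf_eq_left.2 inf_le_right]
    rw [hTKm] at hβ
    have hβI : IsIso F (β : MulAut R) := (mem_autGroup hR.1).1 β.2
    obtain ⟨ω, hω, hωe⟩ := receptive_extend (fullyNormalized_props hS hF hR).2 hβI
    let N := extender S R (R.subtype.comp (β : MulAut R).toMonoidHom)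
    have hRN : R ≤ N := le_extender hβI
    have hNS : N ≤ S := src_le hω
    -- an element of `C` outside `R` normalizing `R`
    have hRC : R ≤ Subgroup.normalizer (C : Set Ω) := fun r hr => by
      have := finite_of_le (centralizerIn_le S Q)
      refine mem_normalizer_of_conj_mem (fun y hy => ?_)
      refine mem_centralizerIn.2 ⟨S.mul_mem (S.mul_mem (hR.1 hr) hy.1) (S.inv_mem (hR.1 hr)), fun q hq => ?_⟩
      have h := (mem_centralizerIn.1 hy).2 _ (conj_mem_of_mem_normalizer (inv_mem (hSQ (hR.1 hr))) hq)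
      rw [inv_inv] at h
      have h2 := congrArg (fun w => r * w * r⁻¹) h
      simpa [mul_assoc] using h2
    set D := R ⊔ C with hD
    have hDS : D ≤ S := sup_le hR.1 (centralizerIn_le S Q)
    have := finite_of_le hDS
    have hRD : R < D := lt_of_le_of_ne le_sup_left fun h => hCR (h ▸ le_sup_right)
    obtain ⟨d, hd', hdR⟩ := exists_normalizerIn_not_mem (hS.to_le hDS) hRD
    have hdm : d ∈ (↑(R ⊔ C) : Set Ω) := hd'.1
    rw [Subgroup.coe_mul_of_left_le_normalizer_right R C hRC] at hdm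
    obtain ⟨r, hr, e, he, rfl⟩ := hdm
    have heN : e ∈ Subgroup.normalizer (R : Set Ω) := by
      have := mul_mem (inv_mem (Subgroup.le_normalizer hr : r ∈ Subgroup.normalizer (R : Set Ω))) hd'.2
      simpa using this
    have heR : e ∉ R := fun h => hdR (R.mul_mem hr h)
    have heS : e ∈ S := centralizerIn_le S Q he
    have heA : conjAut R heN ∈ A := autInducedBy_le_autGroup hR.1 (conjAut_mem_autInducedBy heS heN)
    set γ : A := ⟨conjAut R heN, heA⟩ with hγ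
    have hγSy : γ ∈ (Sy : Subgroup A) ⊓ K := by
      refine ⟨?_, fun y hy => ?_⟩
      · rw [hSy]
        exact mem_autInducedBy.2 ⟨e, heS, fun y => conjAut_apply _ heN y⟩
      · apply Subtype.ext
        rw [show ((γ : MulAut R) y : Ω) = e * (y : Ω) * e⁻¹ from conjAut_apply _ heN y]
        rw [← he.2 _ hy, mul_inv_cancel_right]
    have hconj : β * γ * β⁻¹ ∈ (Sy : Subgroup A) ⊓ K := conj_mem_of_mem_normalizer hβ hγSy
    obtain ⟨h', hh', he'⟩ := mem_autInducedBy.1 (hSy ▸ hconj.1)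
    have heN' : e ∈ N := mem_extender.2 ⟨heS, heN, h', hh', fun y hy => by
      show ((β : MulAut R) ⟨e * y * e⁻¹, hy⟩ : Ω) = h' * ((β : MulAut R) y : Ω) * h'⁻¹
      rw [← he' ((β : MulAut R) y)]
      show _ = ((β : MulAut R) (conjAut R heN ((β : MulAut R)⁻¹ ((β : MulAut R) y))) : Ω)
      rw [MulAut.inv_apply_self]
      exact congrArg (fun w : R => ((β : MulAut R) w : Ω)) (Subtype.ext (conjAut_apply _ heN y).symm)⟩
    have hlt : R < N := lt_of_le_not_ge hRN fun h => heR (h heN')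
    have := finite_of_le hNS
    have hc : Nat.card R < Nat.card N := lt_of_le_of_ne (Subgroup.card_le_of_le hlt.le)
      fun h => hlt.ne (eq_of_le_of_natCard_le hlt.le h.ge)
    have h := hbig N hc ω hω (hRN hxR)
    rw [hωe ⟨x, hxR⟩ (hRN hxR)] at h
    exact Subtype.ext h
  intro β
  have hβ : β ∈ Subgroup.normalizer (((TK : Subgroup K).map K.subtype : Subgroup A) : Set A) ⊔ K := by
    rw [Sylow.normalizer_sup_eq_top TK]; trivial
  exact sup_le hNFix hKFix hβ

end Steps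

section General

/-- Control of the powers of the centre, the induction. -/
theorem fixed_aux [Fact p.Prime] (hW : IsCharPFunctor.{u} p W) (hWZ : CenterLE.{u} p W)
    (hq : QuadCond.{u} p W) :
    ∀ (n m : ℕ) (Ω : Type u) [Group Ω] (S : Subgroup Ω) [Finite S] (F : FusionSystem S),
      Nat.card S = n → (homGraphs F).ncard = m → IsPGroup p S → F.IsSaturated p →
      ∀ x ∈ zPow p S, FixN F W x → Fixed F x := by
  intro n
  induction n using Nat.strong_induction_on with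
  | _ n ihn =>
  intro m
  induction m using Nat.strong_induction_on with
  | _ m ihm =>
  intro Ω _ S _ F hn hm hS hF x hx hX
  subst hn hm
  obtain ⟨hxS, hxC⟩ := zPow_le hx
  have hproper : ∀ {Q : Subgroup Ω}, F.IsFullyNormalized Q → ¬ F.IsNormal Q →
      ∀ {E : FusionSystem (normalizerIn S Q)}, F.IsNormalizerSystem Q E →
      FixN E W x → Fixed E x := by
    intro Q hQ hnn E hE hhyp
    have hle : normalizerIn S Q ≤ S := normalizerIn_le S Q
    have := finite_of_le hle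
    have hEs := normalizerSystem_saturated hS hF hQ E hE
    have hx' := zPow_le_normalizerIn hQ.1 hx
    rcases (Subgroup.card_le_of_le hle).lt_or_eq with h | h
    · exact ihn _ h _ Ω _ E rfl rfl (hS.to_le hle) hEs x hx' hhyp
    · exact ihm _ (normalizerSystem_homGraphs_lt hQ.1 hnn hE) Ω _ E h rfl (hS.to_le hle) hEs x hx' hhyp
  have hnormalS : ∀ {Q : Subgroup Ω}, Q ≤ S → S ≤ Subgroup.normalizer (Q : Set Ω) → ¬ F.IsNormal Q →
      ∀ P, ∀ φ ∈ F.normalizerHom Q P, ∀ hx : x ∈ P, φ ⟨x, hx⟩ = x := by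
    intro Q hQ hSQ hnn P φ hφ hxP
    have hfn : F.IsFullyNormalized Q := ⟨hQ, fun Q' _ => by
      rw [show normalizerIn S Q = S from le_antisymm (normalizerIn_le _ _) (le_inf le_rfl hSQ)]
      exact Subgroup.card_le_of_le (normalizerIn_le S Q')⟩
    obtain ⟨E, hE⟩ := exists_normalizerSystem F hQ
    refine hproper hfn hnn hE (fun P φ hφ => ?_) P φ (by rw [hE P]; exact hφ) hxP
    have hT : normalizerIn S Q = S := le_antisymm (normalizerIn_le _ _) (le_inf le_rfl hSQ)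
    rw [show wsub W (normalizerIn S Q) = wsub W S by rw [hT]] at hφ
    exact hX P φ (normalizerHom_mono (normalizerSystem_le hE) (normalizerIn_le S Q) hφ)
  have hxV : x ∈ wsub W S := mem_wsub_of_center hWZ hS hxS hxC
  have htop : ∀ φ ∈ F.Hom S, φ ⟨x, hxS⟩ = x := by
    intro φ hφ
    have hSN : S ≤ Subgroup.normalizer (wsub W S : Set Ω) :=
      Subgroup.le_normalizer.trans (wsub_normalizer hW hS)
    refine hX S φ (mem_normalizerHom (wsub_le S) (le_inf le_rfl hSN) hφ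
      (fun y => ⟨val_mem hφ y, hSN (val_mem hφ y)⟩) ?_) hxS
    rw [wsub_image hW hS le_rfl (F.injective_of_mem hφ)]
    congr 1
    refine eq_of_le_of_natCard_le ?_ ?_
    · rintro _ ⟨y, -, rfl⟩; exact val_mem hφ y
    · rw [Subgroup.card_map_of_injective (F.injective_of_mem hφ), Subgroup.subgroupOf_self,
        Subgroup.card_top]
  by_cases hS1 : S = ⊥
  · intro P φ hφ hxP
    have h1 : x = 1 := Subgroup.mem_bot.1 (hS1 ▸ hxS)
    exact (Subgroup.mem_bot.1 (hS1 ▸ val_mem hφ _)).trans h1.symm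
  have hQn : F.IsNormal F.core := isNormal_core
  have hQS := hQn.1
  have hmax : ∀ {R : Subgroup Ω}, F.IsNormal R → R ≤ F.core := fun hR => le_sSup hR
  by_cases hcore : F.core = ⊥
  · have hnn : ∀ {Q : Subgroup Ω}, Q ≠ ⊥ → ¬ F.IsNormal Q := fun hQ h => hQ (le_bot_iff.1 (hcore ▸ hmax h))
    have maps : ∀ j, (∀ Q : Subgroup Ω, Q ≠ ⊥ → F.IsFullyNormalized Q → j < Nat.card (normalizerIn S Q) →
        ∀ P, ∀ φ ∈ F.normalizerHom Q P, ∀ hx : x ∈ P, φ ⟨x, hx⟩ = x) →
        ∀ P : Subgroup Ω, j ≤ Nat.card P → ∀ φ ∈ F.Hom P, ∀ hx : x ∈ P, φ ⟨x, hx⟩ = x := by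
      intro j hj
      refine fix_maps hS hF hxS hxC htop j fun R hR hRS hjR _ α hα hxR => ?_
      by_cases hR1 : R = ⊥
      · have h1 : x = 1 := Subgroup.mem_bot.1 (hR1 ▸ hxR)
        rw [show (⟨x, hxR⟩ : R) = 1 from Subtype.ext h1, map_one]
        exact h1.symm
      obtain ⟨g, hg, hgR⟩ := exists_normalizerIn_not_mem hS (lt_of_le_of_ne hR.1 hRS)
      have hlt : R < normalizerIn S R := lt_of_le_not_ge (le_normalizerIn hR.1) fun h => hgR (h hg)
      have := finite_of_le (normalizerIn_le S R)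
      have hc : Nat.card R < Nat.card (normalizerIn S R) := lt_of_le_of_ne (Subgroup.card_le_of_le hlt.le)
        fun h => hlt.ne (eq_of_le_of_natCard_le hlt.le h.ge)
      exact hj R hR1 hR (by omega) R _ (mem_normalizerHom le_rfl (le_normalizerIn hR.1) hα
        (fun y => le_normalizerIn hR.1 (α y).2) (by
          rw [Subgroup.subgroupOf_self, ← MonoidHom.range_eq_map]; exact iso_range α)) hxR
    have key : ∀ d, ∀ Q : Subgroup Ω, Q ≠ ⊥ → F.IsFullyNormalized Q →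
        Nat.card S - Nat.card (normalizerIn S Q) = d →
        ∀ P, ∀ φ ∈ F.normalizerHom Q P, ∀ hx : x ∈ P, φ ⟨x, hx⟩ = x := by
      intro d
      induction d using Nat.strong_induction_on with
      | _ d ih =>
      intro Q hQ1 hQ hd
      set T := normalizerIn S Q with hTdef
      have hTS : T ≤ S := normalizerIn_le S Q
      by_cases hTeq : T = S
      · exact hnormalS hQ.1 (hTeq.ge.trans inf_le_right) (hnn hQ1)
      obtain ⟨E, hE⟩ := exists_normalizerSystem F hQ.1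
      intro P φ hφ hxP
      refine hproper hQ (hnn hQ1) hE ?_ P φ (by rw [hE P]; exact hφ) hxP
      have := finite_of_le hTS
      have hTp : IsPGroup p T := hS.to_le hTS
      set V := wsub W T with hVdef
      have hVS : V ≤ S := (wsub_le T).trans hTS
      have hT1 : T ≠ ⊥ := fun h => hQ1 (le_bot_iff.1 (h ▸ le_normalizerIn hQ.1))
      have hV1 : V ≠ ⊥ := wsub_ne_bot hW hTp hT1
      obtain ⟨g, hg, hgT⟩ := exists_normalizerIn_not_mem hS (lt_of_le_of_ne hTS hTeq)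
      have hTV : normalizerIn S T ≤ normalizerIn S V := inf_le_inf le_rfl (wsub_normalizer hW hTp)
      have hlt : T < normalizerIn S V :=
        lt_of_le_not_ge ((le_normalizerIn hTS).trans hTV) fun h => hgT (h (hTV hg))
      have := finite_of_le (normalizerIn_le S V)
      have hc : Nat.card T < Nat.card (normalizerIn S V) := lt_of_le_of_ne (Subgroup.card_le_of_le hlt.le)
        fun h => hlt.ne (eq_of_le_of_natCard_le hlt.le h.ge)
      obtain ⟨Q', hVQ', hQ'⟩ := exists_fullyNormalized (F := F) hVS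
      obtain ⟨f, hf, ψ, hψ, hψN, hψe⟩ := exists_extTo hS hF hQ' (isConj_symm hVQ')
      have hQ'1 : Q' ≠ ⊥ := fun h => hV1 (Subgroup.card_eq_one.1
        ((isConj_card hVQ').trans (Subgroup.card_eq_one.2 h)))
      have hcQ' : Nat.card (normalizerIn S V) ≤ Nat.card (normalizerIn S Q') :=
        hQ'.2 V (isConj_symm hVQ')
      have hxT : x ∈ T := center_le_normalizerIn hQ.1 ⟨hxS, hxC⟩
      have hxN : x ∈ normalizerIn S V := le_normalizerIn hTS hxT |> fun h => hTV h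
      have hψX : ψ ⟨x, hxN⟩ = x := by
        refine maps (Nat.card T + 1) (fun Q₂ h1 h2 h3 => ih _ ?_ Q₂ h1 h2 rfl) _ hc ψ hψ hxN
        have h4 : Nat.card (normalizerIn S Q₂) ≤ Nat.card S := Subgroup.card_le_of_le (normalizerIn_le S Q₂)
        omega
      have hQ'X : ∀ P, ∀ φ ∈ F.normalizerHom Q' P, ∀ hx : x ∈ P, φ ⟨x, hx⟩ = x := by
        refine ih _ ?_ Q' hQ'1 hQ' rfl
        have h4 : Nat.card (normalizerIn S Q') ≤ Nat.card S := Subgroup.card_le_of_le (normalizerIn_le S Q')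
        omega
      intro P φ hφ hxP
      set D := P ⊔ V with hD
      obtain ⟨hφE, hPN, hφN, ψ₀, hψ₀, hψ₀P, hψ₀V⟩ := hφ
      have hψ₀F : ψ₀ ∈ F.Hom D := normalizerSystem_le hE _ hψ₀
      have hDV : D ≤ normalizerIn S V :=
        sup_le (fun y hy => ⟨hTS (hPN hy).1, (hPN hy).2⟩) (le_normalizerIn hVS)
      have hval : ∀ y : D, ψ₀ y ∈ normalizerIn S V := by
        refine sup_map_le (fun y => ?_) (fun y => ?_)
        · rw [hψ₀P]; exact ⟨hTS (hφN y).1, (hφN y).2⟩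
        · exact le_normalizerIn hVS (hψ₀V.le ⟨_, y.2, rfl⟩)
      obtain ⟨e, he, hee⟩ := exists_iso_restrict hDV hψ
      have hVD : V ≤ D := le_sup_right
      have hV' : ∀ (v : Ω) (hv : v ∈ normalizerIn S V), v ∈ V → ψ ⟨v, hv⟩ ∈ Q' := fun v hv hvV => by
        rw [hψe ⟨v, hvV⟩ hv]; exact (f ⟨v, hvV⟩).2
      let χ : ((D.subgroupOf (normalizerIn S V)).map ψ) →* Ω :=
        ψ.comp ((ψ₀.comp e.symm.toMonoidHom).codRestrict _ fun y => hval (e.symm y))
      have hχ : χ ∈ F.Hom ((D.subgroupOf (normalizerIn S V)).map ψ) :=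
        F.comp_mem (mem_of_comp he.symm hψ₀F (fun y => (e.symm y).2) fun _ => rfl) hψ (fun y => hval (e.symm y))
      have hQ'D : Q' ≤ ((D.subgroupOf (normalizerIn S V)).map ψ) := fun q hq => by
        refine ⟨⟨(f.symm ⟨q, hq⟩ : V), hDV (hVD (f.symm ⟨q, hq⟩).2)⟩, hVD (f.symm ⟨q, hq⟩).2, ?_⟩
        rw [hψe (f.symm ⟨q, hq⟩) _, MulEquiv.apply_symm_apply]
      have hD'N : ((D.subgroupOf (normalizerIn S V)).map ψ) ≤ normalizerIn S Q' := by
        rintro _ ⟨y, -, rfl⟩; exact hψN y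
      have hχQ : (Q'.subgroupOf ((D.subgroupOf (normalizerIn S V)).map ψ)).map χ = Q' := by
        have := finite_of_le hQ'.1
        refine eq_of_le_of_natCard_le ?_ ?_
        · rintro _ ⟨y, hy, rfl⟩
          refine hV' _ _ (hψ₀V.le ⟨e.symm y, ?_, rfl⟩)
          obtain ⟨v, hv⟩ := f.surjective ⟨(y : Ω), hy⟩
          have h1 : y = e ⟨(v : Ω), hVD v.2⟩ := by
            apply Subtype.ext
            rw [hee, hψe v _, hv]
          rw [h1, MulEquiv.symm_apply_apply]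
          exact v.2
        · rw [Subgroup.card_map_of_injective (F.injective_of_mem hχ),
            Nat.card_congr (Subgroup.subgroupOfEquivOfLe hQ'D).toEquiv]
      let xD : D := ⟨x, Subgroup.mem_sup_left hxP⟩
      have hex : (e xD : Ω) = x := by rw [hee]; exact hψX
      have h2 := hQ'X ((D.subgroupOf (normalizerIn S V)).map ψ) χ
        (mem_normalizerHom hQ'D hD'N hχ (fun y => hψN _) hχQ) (hex ▸ (e xD).2)
      rw [show (⟨x, hex ▸ (e xD).2⟩ : (D.subgroupOf (normalizerIn S V)).map ψ) = e xD from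
        Subtype.ext hex.symm] at h2
      have he' : χ (e xD) = ψ ⟨ψ₀ xD, hval xD⟩ := by
        show ψ ⟨ψ₀ (e.symm (e xD)), _⟩ = _
        congr 1
        exact Subtype.ext (congrArg ψ₀ (e.symm_apply_apply xD))
      rw [he'] at h2
      have h4 : ψ₀ xD = x := congrArg Subtype.val (F.injective_of_mem hψ (h2.trans hψX.symm))
      exact (hψ₀P ⟨x, hxP⟩).symm.trans h4
    intro P φ hφ hxP
    exact maps 0 (fun Q h1 h2 _ => key _ Q h1 h2 rfl) P (Nat.zero_le _) φ hφ hxP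
  · set Q := F.core with hQdef
    by_cases hQc : F.IsCentric Q
    · exact constrained_fix hW hWZ hq hS ⟨hF, Q, hQn, hQc⟩ hx hX
    have hQne : Q ≠ S := fun h => hQc ⟨hQS, fun Q' hQ' => by
      rw [show Q' = S from isConj_self_of_top (h ▸ hQ')]
      exact centralizerIn_le S S⟩
    have hsc := stronglyClosed_of_isNormal hQn
    have hSQ := le_normalizer_of_stronglyClosed hsc
    set R := Q ⊔ centralizerIn S Q with hRdef
    have hRS : R ≤ S := sup_le hQS (centralizerIn_le S Q)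
    have := finite_of_le hRS
    have hSR : S ≤ Subgroup.normalizer (R : Set Ω) := by
      intro g hg
      refine mem_normalizer_of_conj_mem fun y hy => ?_
      exact conj_center_weakly hQn (F.conj_mem hRS hg) ⟨y, hy⟩
    have hRN : normalizerIn S R = S := le_antisymm (normalizerIn_le _ _) (le_inf le_rfl hSR)
    have hRfn : F.IsFullyNormalized R := ⟨hRS, fun Q' _ => by
      rw [hRN]; exact Subgroup.card_le_of_le (normalizerIn_le S Q')⟩
    have hRrange : ∀ φ ∈ F.Hom R, φ.range = R := fun φ hφ => eq_of_le_of_natCard_le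
      (by rintro _ ⟨y, rfl⟩; exact conj_center_weakly hQn hφ y)
      (isConj_card ⟨φ, hφ, rfl⟩).le
    have hRc : F.IsCentric R := ⟨hRS, fun R' ⟨φ, hφ, hr⟩ => by
      rw [← hr, hRrange φ hφ]
      exact (centralizerIn_antitone le_sup_left).trans le_sup_right⟩
    obtain ⟨ER, hER⟩ := exists_normalizerSystem F hRS
    have := finite_of_le (normalizerIn_le S R)
    have hR0 : ∀ φ ∈ F.Hom R, ∀ hx' : x ∈ R, φ ⟨x, hx'⟩ = x := by
      intro φ hφ
      have hfix : Fixed ER x := by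
        refine constrained_fix hW hWZ hq (hS.to_le (normalizerIn_le S R))
          (normalizerSystem_constrained hS hF hRfn hRc hER) (zPow_le_normalizerIn hRS hx) fun P φ hφ => ?_
        rw [show wsub W (normalizerIn S R) = wsub W S by rw [hRN]] at hφ
        exact hX P φ (normalizerHom_mono (normalizerSystem_le hER) (normalizerIn_le S R) hφ)
      refine hfix R φ (normalizerSystem_mem hRS hER le_rfl (le_normalizerIn hRS) hφ
        (fun z => le_normalizerIn hRS (conj_center_weakly hQn hφ z)) ?_)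
      rw [Subgroup.subgroupOf_self, ← MonoidHom.range_eq_map, hRrange _ hφ]
    -- the factor system
    obtain ⟨hn', D, hD⟩ := exists_mk_factor (F := F) hsc
    set θ := QuotientGroup.mk' (Q.subgroupOf S) with hθ
    have hker : ∀ s : S, θ s = 1 ↔ (s : Ω) ∈ Q := hD.2.1
    have hlt : Nat.card (⊤ : Subgroup (S ⧸ Q.subgroupOf S)) < Nat.card S := by
      rw [Subgroup.card_top, Subgroup.card_eq_card_quotient_mul_card_subgroup (Q.subgroupOf S)]
      refine lt_mul_of_one_lt_right Nat.card_pos ?_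
      rw [Nat.card_congr (Subgroup.subgroupOfEquivOfLe hQS).toEquiv]
      have := finite_of_le hQS
      exact (Subgroup.one_lt_card_iff_ne_bot Q).2 hcore
    have hDs := saturated_of_factor hS hF hsc hD
    have hDp := isPGroup_of_factor hS hD
    have := finite_of_factor hD
    set xb := θ ⟨x, hxS⟩ with hxb
    have hxbZ : xb ∈ zPow p (⊤ : Subgroup (S ⧸ Q.subgroupOf S)) := by
      obtain ⟨z, h1, h2, hz⟩ := zPow_root hx
      rw [hxb, show (⟨x, hxS⟩ : S) = (⟨z, h1⟩ : S) ^ p from Subtype.ext hz.symm, map_pow]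
      refine zPow_of_root (Subgroup.mem_top _) fun t _ => ?_
      obtain ⟨s, rfl⟩ := QuotientGroup.mk'_surjective (Q.subgroupOf S) t
      rw [← map_mul, ← map_mul]
      exact congrArg θ (Subtype.ext (h2 s s.2))
    have hDX : Fixed D xb := by
      refine ihn _ hlt _ (S ⧸ Q.subgroupOf S) _ D rfl rfl hDp hDs xb hxbZ ?_
      intro P' φ' hφ' hxP'
      set Vb := wsub W (⊤ : Subgroup (S ⧸ Q.subgroupOf S)) with hVb
      set D₀ := P' ⊔ Vb with hD₀
      obtain ⟨-, hP'N, -, ψ', hψ', hψ'P, hψ'V⟩ := hφ'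
      set D₁ := preimageAlong θ D₀ with hD₁
      obtain ⟨-, ψ, hψ, h₁, h₂, h₃, he⟩ := (hD.2.2.2 D₀ ψ').1 hψ'
      set Y := preimageAlong θ Vb with hY
      have hYS : Y ≤ S := preimageAlong_le θ Vb
      have hVnorm : ∀ g : S, θ g ∈ Subgroup.normalizer (Vb : Set (S ⧸ Q.subgroupOf S)) := fun g =>
        wsub_normalizer hW hDp (Subgroup.le_normalizer (Subgroup.mem_top _))
      have hSY : S ≤ Subgroup.normalizer (Y : Set Ω) := by
        intro g hg
        have := finite_of_le hYS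
        refine mem_normalizer_of_conj_mem fun y hy => ?_
        obtain ⟨hyS, hy'⟩ := mem_preimageAlong.1 hy
        refine mem_preimageAlong.2 ⟨S.mul_mem (S.mul_mem hg hyS) (S.inv_mem hg), ?_⟩
        have h := conj_mem_of_mem_normalizer (hVnorm ⟨g, hg⟩) hy'
        rw [← map_inv, ← map_mul, ← map_mul] at h
        exact h
      have hYnn : ¬ F.IsNormal Y := by
        intro h
        have hYQ : Y ≤ Q := hmax h
        refine wsub_ne_bot hW hDp (fun htop => hQne (le_antisymm hQS fun s hs => ?_))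
          ((Subgroup.eq_bot_iff_forall _).2 fun v hv => ?_)
        · exact (hker ⟨s, hs⟩).1 (Subgroup.mem_bot.1 (htop ▸ Subgroup.mem_top _))
        · obtain ⟨s, rfl⟩ := QuotientGroup.mk'_surjective (Q.subgroupOf S) v
          exact (hker s).2 (hYQ (mem_preimageAlong.2 ⟨s.2, hv⟩))
      have hYD : Y ≤ D₁ := fun y hy => by
        obtain ⟨hyS, hy'⟩ := mem_preimageAlong.1 hy
        exact mem_preimageAlong.2 ⟨hyS, Subgroup.mem_sup_right hy'⟩
      have hψY : (Y.subgroupOf D₁).map ψ = Y := by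
        have := finite_of_le hYS
        refine eq_of_le_of_natCard_le ?_ ?_
        · rintro _ ⟨y, hy, rfl⟩
          refine mem_preimageAlong.2 ⟨h₂ y, ?_⟩
          rw [← he y]
          exact hψ'V.le ⟨_, (mem_preimageAlong.1 hy).2, rfl⟩
        · rw [Subgroup.card_map_of_injective (F.injective_of_mem hψ),
            Nat.card_congr (Subgroup.subgroupOfEquivOfLe hYD).toEquiv]
      have hxD : x ∈ D₁ := mem_preimageAlong.2 ⟨hxS, Subgroup.mem_sup_left hxP'⟩
      have hψX := hnormalS hYS hSY hYnn D₁ ψ (mem_normalizerHom hYD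
        (fun y hy => ⟨h₁ hy, hSY (h₁ hy)⟩) hψ (fun y => ⟨h₂ y, hSY (h₂ y)⟩) hψY) hxD
      rw [← hψ'P ⟨xb, hxP'⟩]
      refine Eq.trans ?_ (congrArg θ (show (⟨ψ ⟨x, hxD⟩, h₂ _⟩ : S) = ⟨x, hxS⟩ from Subtype.ext hψX))
      rw [← he ⟨x, hxD⟩]
      rfl
    have hfac : ∀ P : Subgroup Ω, ∀ φ ∈ F.Hom P, ∀ hx : x ∈ P, x⁻¹ * φ ⟨x, hx⟩ ∈ Q := by
      intro P φ hφ hxP
      obtain ⟨φ', hφ', h₁, h₂, h₃, he⟩ := (isSurjectiveMorphism_of_factor hS hF hsc hD).1.2 P φ hφ
      have hz := hDX _ φ' hφ' (h₃ ⟨x, hxP⟩)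
      have hz' : θ ⟨φ ⟨x, hxP⟩, h₂ _⟩ = xb := by
        rw [← he ⟨x, hxP⟩]
        exact hz
      exact (hker (⟨x, hxS⟩⁻¹ * ⟨φ ⟨x, hxP⟩, h₂ _⟩)).1 (by rw [map_mul, map_inv, hz', inv_mul_cancel])
    intro P φ hφ hxP
    exact fix_maps hS hF hxS hxC htop 0 (fun R' hR' _ _ hbig α hα hxR' =>
      fix_step hS hF hxS hxC hQn hfac hR0 hR' hbig α hα hxR') P (Nat.zero_le _) φ hφ hxP

end General

/-- Control of the powers of the centre for fusion systems. -/
theorem center_control [Fact p.Prime] {Ω : Type u} [Group Ω] {S : Subgroup Ω} [Finite S]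
    {F : FusionSystem S} (hW : IsCharPFunctor.{u} p W) (hWZ : CenterLE.{u} p W) (hq : QuadCond.{u} p W)
    (hS : IsPGroup p S) (hF : F.IsSaturated p) {x : Ω} (hx : x ∈ zPow p S) (hX : FixN F W x) :
    x ∈ F.center :=
  (Cfsg.Agent.Lib.LocalP2.mem_center_iff_fixed hS hF).2
    ⟨zPow_le hx, fixed_aux hW hWZ hq _ _ Ω S F rfl rfl hS hF x hx hX⟩

end Cfsg.Agent.Lib.FusionTransfer
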